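import Cfsg.Agent.H999.Ccp.Fi24Core
import Cfsg.Agent.H859.Ccp.He
import Cfsg.Agent.H868.HeFi24
import Cfsg.Agent.Schreier.FiTwentyFour
import Cfsg.Agent.BpSpor.Row.Fi24

/-!
# S4114: the row `Fi24'` (helper999)
-/

set_option autoImplicit false

namespace Cfsg.Agent.H999.Ccp.FiTF

open Subgroup Cfsg Cfsg.Spor Cfsg.Agent.H520 Cfsg.Agent.H497.Stein
open Cfsg.Agent.R08.FiTwentyFour (L finite_Fi24)
open Cfsg.Agent.CpAutFi24.OutInv Cfsg.Agent.CpAutFi24.Unit Cfsg.Agent.CpAutFi24.Row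

universe u

/-- a subgroup `He` of `Fi24'` -/
theorem exists_he : ∃ φ : Spor.He →* Spor.Fi24', Function.Injective φ := by
  obtain ⟨ψ, hψ⟩ := H868.HeFi24.exists_embedding
  have hle : ∀ x, ψ x ∈ commutator Spor.Fi24 :=
    Fischer.HeInFi24.he_range_le ψ (commutator Spor.Fi24) Fischer.Fi24Final.index_commutator
  exact ⟨ψ.codRestrict (commutator Spor.Fi24) hle, fun a b h => hψ (congrArg Subtype.val h)⟩

/-- elements of order 5 and 7 -/
theorem moved_of_he {p : ℕ} (hp : p.Prime) {m k : ℕ} (h1 : 1255205709190661721292800 = p ^ k * m) (hm : ¬ p ∣ m)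
    (h2 : p ^ k ∣ 4030387200) (h : Moved p Spor.He) : Moved p Spor.Fi24' := by
  have hpf : Fact p.Prime := ⟨hp⟩
  have hfin : Finite Spor.Fi24' := Schreier.FiTwentyFour.finite
  obtain ⟨φ, hφ⟩ := exists_he
  refine Moved.of_hom φ hφ ?_ h
  intro j hj
  rw [FixBN.HeStab.card_he]
  rw [Schreier.FiTwentyFour.card_eq, h1] at hj
  have hcop : Nat.Coprime (p ^ j) m := ((Nat.Prime.coprime_iff_not_dvd hp).2 hm).pow_left j
  exact (hcop.dvd_of_dvd_mul_right hj).trans h2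

theorem moved_five : Moved 5 Spor.Fi24' :=
  moved_of_he (k := 2) (m := 50208228367626468851712) Nat.prime_five (by norm_num) (by norm_num) (by norm_num)
    H859.Ccp.He.moved_five

theorem moved_seven : Moved 7 Spor.Fi24' :=
  moved_of_he (k := 3) (m := 3659491863529626009600) (by norm_num) (by norm_num) (by norm_num) (by norm_num)
    H859.Ccp.He.moved_seven

theorem not_dvd [Finite Spor.Fi24'] {α : MulAut Spor.Fi24'} (h : Cfg α) {p : ℕ} (hp : p.Prime) (h2 : p ≠ 2) (h3 : p ≠ 3) :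
    ¬ p ∣ orderOf α := by
  have D := BpSpor.Row.dat_fi24 (K := Spor.Fi24') ⟨MulEquiv.refl _⟩
  have hs := D.simple
  refine not_dvd_of_moved h hp (D.inn p hp h2) ?_
  by_cases hd : p ^ 2 ∣ 1255205709190661721292800
  · obtain ⟨k, hk, h2k⟩ := OrdDiv.exists_pair
      (l := [(2, 21), (3, 16), (5, 2), (7, 3), (11, 1), (13, 1), (17, 1), (23, 1), (29, 1)]) (by decide +kernel) hp
      (by norm_num : 1 ≤ 2) hd
    simp only [List.mem_cons, List.not_mem_nil, or_false, Prod.mk.injEq] at hk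
    rcases hk with ⟨rfl, rfl⟩ | ⟨rfl, rfl⟩ | ⟨rfl, rfl⟩ | ⟨rfl, rfl⟩ | ⟨rfl, rfl⟩ | ⟨rfl, rfl⟩ | ⟨rfl, rfl⟩ |
      ⟨rfl, rfl⟩ | ⟨rfl, rfl⟩
    · exact absurd rfl h2
    · exact absurd rfl h3
    · exact moved_five
    · exact moved_seven
    all_goals exact absurd h2k (by norm_num)
  · exact moved_of_not_sq h.na hp (by rw [D.card]; exact hd)

theorem row_model : Row Spor.Fi24' := by
  have hfin : Finite Spor.Fi24' := Schreier.FiTwentyFour.finite
  have D := BpSpor.Row.dat_fi24 (K := Spor.Fi24') ⟨MulEquiv.refl _⟩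
  intro α h
  have hcb := h.center_bot
  have hd2 : 2 ∣ orderOf α := by
    obtain ⟨p, hp, hp3, hd⟩ := h.exists_prime_ne Nat.prime_three (by rw [D.card]; norm_num)
    by_cases hp2 : p = 2
    · rwa [← hp2]
    · exact absurd hd (not_dvd h hp hp2 hp3)
  have hd3 : 3 ∣ orderOf α := by
    obtain ⟨p, hp, hp2, hd⟩ := h.exists_prime_ne Nat.prime_two (by rw [D.card]; norm_num)
    by_cases hp3 : p = 3
    · rwa [← hp3]
    · exact absurd hd (not_dvd h hp hp2 hp3)
  obtain ⟨β, hβ, hβo⟩ := exists_prime_order Nat.prime_two hd2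
  obtain ⟨x, hy, hxo⟩ := exists_prime_order Nat.prime_three hd3
  obtain ⟨y, rfl⟩ := D.inn 3 Nat.prime_three (by norm_num) x hxo
  have hyo : orderOf y = 3 := by
    rw [← hxo]
    exact (orderOf_injective _ (fun a b hab => conj_inj hcb hab) y).symm
  have hy3 : y ^ 3 = 1 := by rw [← hyo, pow_orderOf_eq_one]
  have hcon : ∀ d ∈ L, d * (y : Fi24) ≠ (y : Fi24) * d := fun d hd hdy =>
    not_movedAt h hy (movedAt_of_comm hyo hd hdy)
  obtain ⟨g₀, hg₀⟩ := KFacts.FiTF.exists_conj α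
  obtain ⟨s, hs⟩ := KFacts.FiTF.exists_conj β
  have hββ : β * β = 1 := by rw [← pow_two, ← hβo, pow_orderOf_eq_one]
  have hβ1 : β ≠ 1 := by
    rintro rfl
    rw [orderOf_one] at hβo
    norm_num at hβo
  have hss : s * s = 1 := by
    apply eq_one_of_comm
    intro k hk
    have h1 : β (β ⟨k, hk⟩) = ⟨k, hk⟩ := DFunLike.congr_fun hββ ⟨k, hk⟩
    have h2 := congrArg Subtype.val h1
    rw [hs, hs] at h2
    have h3 : s * (s * k * s⁻¹) * s⁻¹ = k := h2
    calc s * s * k = s * (s * k * s⁻¹) * s⁻¹ * (s * s) := by group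
      _ = k * (s * s) := by rw [h3]
  have hs1 : s ≠ 1 := by
    rintro rfl
    apply hβ1
    ext k
    rw [hs]
    simp
  -- `g₀` and `s` commute
  have hg₀s : Commute g₀ s := by
    have h1 : g₀ * s * g₀⁻¹ * s⁻¹ = 1 := by
      apply eq_one_of_comm
      intro k hk
      have h2 : (α * β) (β⁻¹ (α⁻¹ ⟨k, hk⟩)) = ⟨k, hk⟩ := by
        rw [MulAut.mul_apply, MulAut.apply_inv_self, MulAut.apply_inv_self]
      have h3 : Commute α β := Cfg.comm_zpowers (mem_zpowers α) hβ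
      have h4 : ∀ w : Spor.Fi24', (β (α w) : Fi24) = (α (β w) : Fi24) := fun w =>
        congrArg Subtype.val (DFunLike.congr_fun h3.symm.eq w)
      -- the element `w` with `β (α w) = k`
      obtain ⟨w, hw⟩ : ∃ w, β (α w) = ⟨k, hk⟩ := ⟨α⁻¹ (β⁻¹ ⟨k, hk⟩), by
        rw [MulAut.apply_inv_self, MulAut.apply_inv_self]⟩
      have h5 : s * (g₀ * (w : Fi24) * g₀⁻¹) * s⁻¹ = k := by
        rw [← hg₀, ← hs, hw]
      have h6 : g₀ * (s * (w : Fi24) * s⁻¹) * g₀⁻¹ = k := by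
        rw [← hs, ← hg₀, ← h4, hw]
      have h7 : (w : Fi24) = g₀⁻¹ * s⁻¹ * k * s * g₀ := by
        rw [← h5]; group
      rw [h7] at h6
      calc g₀ * s * g₀⁻¹ * s⁻¹ * k = g₀ * (s * (g₀⁻¹ * s⁻¹ * k * s * g₀) * s⁻¹) * g₀⁻¹ * (g₀ * s * g₀⁻¹ * s⁻¹) := by
            group
        _ = k * (g₀ * s * g₀⁻¹ * s⁻¹) := by rw [h6]
    have h2 : g₀ * s * g₀⁻¹ = s := mul_inv_eq_one.1 h1
    exact mul_inv_eq_iff_eq_mul.1 h2
  -- `s` and `y` commute
  have hsy : s * (y : Fi24) = (y : Fi24) * s := by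
    have h1 : β y = y := by
      have h2 : Commute β (MulAut.conj y) := Cfg.comm_zpowers hβ hy
      have h3 : β * MulAut.conj y * β⁻¹ = MulAut.conj (β y) := by
        ext k
        show ((β (y * β⁻¹ k * y⁻¹) : Spor.Fi24') : Fi24) = ((β y * k * (β y)⁻¹ : Spor.Fi24') : Fi24)
        rw [map_mul, map_mul, map_inv, MulAut.apply_inv_self]
      have h4 : MulAut.conj (β y) = MulAut.conj y := by
        rw [← h3, h2.eq, mul_inv_cancel_right]
      exact conj_inj hcb h4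
    have h2 := congrArg Subtype.val h1
    rw [hs] at h2
    exact mul_inv_eq_iff_eq_mul.1 h2
  by_cases hsc : s ∈ commutator Fi24
  · refine false_even h (s := ⟨s, hsc⟩) hy hy3 hcon (Subtype.ext ?_) (Subtype.ext hss) (fun e => hs1 (congrArg Subtype.val e))
      (Subtype.ext hsy)
    rw [hg₀]
    show g₀ * s * g₀⁻¹ = s
    rw [hg₀s.eq, mul_inv_cancel_right]
  · rcases outer_cases hsc hss with h1 | ⟨a, b, c, hT, rfl⟩
    · exact hcon s h1 hsy
    · exact false_tri h hy hy3 hcon hg₀ hT hg₀s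

/-- **S4114, the row `Fi24'`.** -/
theorem row_Fi24' {G : Type u} [Group G] [Finite G] (h : Spor.IsoFi24' G) : Cfsg.Agent.H520.Row G := by
  obtain ⟨e⟩ := h
  exact row_model.congr e

end Cfsg.Agent.H999.Ccp.FiTF
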