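import Cfsg.Agent.H838.ThreeCl
import Cfsg.Agent.H497.Stein.Eng

/-!
# Elements of order 3 of `Fi23` are real (helper999, for S4114)

* `real_three` : an element of order 3 of `Fi23` is conjugate to its inverse;
* `moved_three` : `Moved 3 Fi23`.
-/

set_option autoImplicit false
set_option maxRecDepth 100000

namespace Cfsg.Agent.H999.Ccp.FiTh

open Subgroup Cfsg Cfsg.Agent.Lib.PermNet Cfsg.Agent.Fischer.Fi23Hom Cfsg.Agent.LThreeFi23
  Cfsg.Agent.H838.Fi23 Cfsg.Agent.H838.Mono Cfsg.Agent.H838.Three Cfsg.Agent.H497.Stein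
open Cfsg.Spor (Fi23)

theorem i0 : eqM ([.z] ++ [.z, .j]) ([.z, .j].reverse ++ [.z]) = true := by decide +kernel
theorem i1 : eqM ([.a, .h] ++ y135) (y135.reverse ++ [.a, .h]) = true := by decide +kernel
theorem i2 : eqM ([.h, .e, .z] ++ y324) (y324.reverse ++ [.h, .e, .z]) = true := by decide +kernel
theorem i3 : eqM ([.a, .h, .z] ++ y27) (y27.reverse ++ [.a, .h, .z]) = true := by decide +kernel

theorem isConj_inv {g w : List Lt} (h : eqM (g ++ w) (w.reverse ++ g) = true) : IsConj (elw w) (elw w)⁻¹ := by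
  have h1 := elw_eq h
  rw [elw_append, elw_append, elw_reverse] at h1
  exact isConj_iff.2 ⟨elw g, by rw [h1, mul_inv_cancel_right]⟩

theorem rep_real (k : Fin 4) : IsConj (rep k) (rep k)⁻¹ := by
  fin_cases k
  · have e : rep 0 = elw [.z, .j] := by rw [elw_cons, elw_one]; rfl
    show IsConj (rep 0) (rep 0)⁻¹
    rw [e]
    exact isConj_inv i0
  · exact isConj_inv i1
  · exact isConj_inv i2
  · exact isConj_inv i3

/-- **the elements of order 3 of `Fi23` are real** -/
theorem real_three {x : Fi23} (hx : x ^ 3 = 1) (hne : x ≠ 1) : IsConj x x⁻¹ := by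
  obtain ⟨k, g, h⟩ := classes hx hne
  have hr := rep_real k
  obtain ⟨m, hm⟩ := isConj_iff.1 hr
  rcases h with h | h
  · have h1 : IsConj x (rep k) := isConj_iff.2 ⟨g, h⟩
    have h2 : IsConj (rep k)⁻¹ x⁻¹ := by
      refine (isConj_iff.2 ⟨g, ?_⟩ : IsConj x⁻¹ (rep k)⁻¹).symm
      rw [← h]; group
    exact (h1.trans hr).trans h2
  · have h1 : IsConj x (rep k)⁻¹ := isConj_iff.2 ⟨g, h⟩
    have h2 : IsConj (rep k) x⁻¹ := by
      refine (isConj_iff.2 ⟨g, ?_⟩ : IsConj x⁻¹ (rep k)).symm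
      rw [← inv_inv (rep k), ← h]; group
    exact (h1.trans hr.symm).trans h2

/-- **S4114**: `Moved 3 Fi23` -/
theorem moved_three [Finite Fi23] : Moved 3 Fi23 := by
  refine moved_of_real Nat.prime_three (by norm_num) fun y hy => real_three ?_ ?_
  · rw [← hy, pow_orderOf_eq_one]
  · rintro rfl
    rw [orderOf_one] at hy
    norm_num at hy

end Cfsg.Agent.H999.Ccp.FiTh
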