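import Cfsg.Agent.H999.Ccp.Fi23Moved
import Cfsg.Agent.CpAut.TwoAll
import Cfsg.Agent.H491.Rad3.FiTF
import Cfsg.Agent.H979.Ccp.Two
import Cfsg.Agent.H874.SteinAQ

/-!
# Configurations of `Fi24'` (helper999, for S4114)

* `movedAt_of_comm` : an element of order 3 commuting with a transposition is real;
* `false_even`, `false_tri` : no automorphism `α` whose cyclic group contains the conjugation by an element `y` of order 3
  commuting with no transposition and an involution.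
-/

set_option autoImplicit false

namespace Cfsg.Agent.H999.Ccp.FiTF

open Subgroup Cfsg Cfsg.Spor Cfsg.Agent.H520 Cfsg.Agent.H497.Stein Cfsg.Agent.H459.Rad
open Cfsg.Agent.KFacts.FiTF Cfsg.Agent.KFacts.FiTF.Defs
open Cfsg.Agent.R08.FiTwentyFour (L finite_Fi24)
open Cfsg.Agent.CpAutFi24.OutInv Cfsg.Agent.CpAutFi24.Unit Cfsg.Agent.CpAutFi24.Row

/-- **an element of order 3 commuting with a transposition is conjugate to its inverse** -/
theorem movedAt_of_comm [Finite Spor.Fi24'] {x : Spor.Fi24'} (ho : orderOf x = 3) {d : Fi24} (hd : d ∈ L)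
    (hdx : d * (x : Fi24) = (x : Fi24) * d) : MovedAt x := by
  obtain ⟨c, rfl⟩ := isConj_iff.1 (show IsConj (Cfsg.Agent.Fischer.Fi24Class.gen .l) d from hd)
  have hn : (commutator Fi24).Normal := inferInstance
  let φ : Spor.Fi23 →* Spor.Fi24' := (((MulAut.conj c).toMonoidHom.comp
    Cfsg.Agent.R08.FiTwentyFour.facts.phi)).codRestrict (commutator Fi24) fun k =>
      hn.conj_mem _ (Cfsg.Agent.R08.FiTwentyFour.mem_commutator_iff.2
        (Cfsg.Agent.R08.FiTwentyFour.facts.sgn_phi k)) c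
  have hφ : Function.Injective φ := by
    intro a b hab
    have h1 : c * Cfsg.Agent.R08.FiTwentyFour.facts.phi a * c⁻¹ = c * Cfsg.Agent.R08.FiTwentyFour.facts.phi b * c⁻¹ :=
      congrArg Subtype.val hab
    exact Cfsg.Agent.R08.FiTwentyFour.facts.phi_injective (mul_left_cancel (mul_right_cancel h1))
  have hfin : Finite Spor.Fi23 := Finite.of_injective φ hφ
  have h1 : (c⁻¹ * (x : Fi24) * c) * Cfsg.Agent.Fischer.Fi24Class.gen .l =
      Cfsg.Agent.Fischer.Fi24Class.gen .l * (c⁻¹ * (x : Fi24) * c) := by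
    calc (c⁻¹ * (x : Fi24) * c) * Cfsg.Agent.Fischer.Fi24Class.gen .l =
        c⁻¹ * ((x : Fi24) * (c * Cfsg.Agent.Fischer.Fi24Class.gen .l * c⁻¹)) * c := by group
      _ = c⁻¹ * ((c * Cfsg.Agent.Fischer.Fi24Class.gen .l * c⁻¹) * (x : Fi24)) * c := by rw [hdx]
      _ = _ := by group
  have h2 : c⁻¹ * (x : Fi24) * c ∈ commutator Fi24 := by
    have := hn.conj_mem (x : Fi24) x.2 c⁻¹
    rwa [inv_inv] at this
  obtain ⟨k, hk⟩ := (Cfsg.Agent.R08.FiTwentyFour.facts.mem_range_iff _).2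
    ⟨h1, Cfsg.Agent.R08.FiTwentyFour.mem_commutator_iff.1 h2⟩
  have h3 : φ k = x := by
    apply Subtype.ext
    show c * Cfsg.Agent.R08.FiTwentyFour.facts.phi k * c⁻¹ = (x : Fi24)
    rw [hk]
    group
  rw [← h3] at ho ⊢
  rw [orderOf_injective φ hφ] at ho
  exact (FiTh.moved_three k ho).map φ hφ

/-- `z` as an element of `Fi24'` -/
theorem M_ne_top [Finite Spor.Fi24'] : Cfsg.Agent.H491.Rad3.FiTF.M ≠ ⊤ := by
  have hcard : Nat.card Spor.Fi24' = 1255205709190661721292800 := Cfsg.Agent.R08.FiTwentyFour.isFi24'.2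
  intro h
  have h1 : Nat.card Cfsg.Agent.H491.Rad3.FiTF.M = 160526499840 := Cfsg.Agent.PreUniq.FiTF.Z.card_CK_eq
  rw [h, card_top, hcard] at h1
  norm_num at h1

/-- a radical element of order 3 of `C(z)` fixes the tetrads -/
theorem fixes_of_mem [Finite Spor.Fi24'] {a : Spor.Fi24'} (ha : a ^ 3 = 1)
    (haM : a ∈ Cfsg.Agent.H491.Rad3.FiTF.M) (hR : a ∈ radIn Cfsg.Agent.H491.Rad3.FiTF.M) :
    Cfsg.Agent.KFacts.FiTF.QuasiA.Fixes (a : Fi24) := by
  rcases Cfsg.Agent.PreUniq.FiTF.Z.dich Cfsg.Agent.H491.Rad3.FiTF.Q inf_le_right Cfsg.Agent.H491.Rad3.FiTF.R_le_Q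
    (fun e he n hn => Cfsg.Agent.H491.Rad3.FiTF.Q_conj he hn) with h | h
  · exact h _ ⟨⟨a, hR, rfl⟩, Cfsg.Agent.H491.Rad3.FiTF.mem_E ha haM⟩
  · exact absurd h Cfsg.Agent.H491.Rad3.FiTF.Q_ne

/-- an involution of `Fi24'` in `⟨α⟩` -/
theorem false_even [Finite Spor.Fi24'] {α : MulAut Spor.Fi24'} (h : Cfg α) {y s : Spor.Fi24'}
    (hy : MulAut.conj y ∈ zpowers α) (hy3 : y ^ 3 = 1) (hcon : ∀ d ∈ L, d * (y : Fi24) ≠ (y : Fi24) * d)
    (hs : α s = s) (hss : s * s = 1) (hs1 : s ≠ 1) (hsy : s * y = y * s) : False := by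
  have hy3' : (y : Fi24) ^ 3 = 1 := congrArg Subtype.val hy3
  obtain ⟨g, hg, hgs⟩ := Cfsg.Agent.LThreeFi24.EmptyTwo.invol_aux hy3' hcon s.2 (congrArg Subtype.val hss)
    (fun e => hs1 (Subtype.ext e)) (congrArg Subtype.val hsy)
  set g' : Spor.Fi24' := ⟨g, hg⟩ with hg'
  have hyM : y ∈ centralizer ({s} : Set Spor.Fi24') := mem_centralizer_singleton_iff.2 hsy.symm
  have hrad : y ∈ radIn (centralizer ({s} : Set Spor.Fi24')) :=
    ⟨_, H979.Ccp.mem_rad h (H979.Ccp.centralizer_ne_top h hs1) (H979.Ccp.centralizer_inv_of_fix hs) hy hyM, rfl⟩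
  -- conjugation by `g'`
  have hmap : (centralizer ({s} : Set Spor.Fi24')).map (MulAut.conj g').toMonoidHom = Cfsg.Agent.H491.Rad3.FiTF.M := by
    ext w
    rw [Cfsg.Agent.H491.Rad3.FiTF.mem_M]
    constructor
    · rintro ⟨v, hv, rfl⟩
      have hv' := congrArg Subtype.val (mem_centralizer_singleton_iff.1 hv)
      have hv'' : (v : Fi24) * (s : Fi24) = (s : Fi24) * (v : Fi24) := hv'
      show g * (v : Fi24) * g⁻¹ * z = z * (g * (v : Fi24) * g⁻¹)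
      rw [← hgs]
      calc g * (v : Fi24) * g⁻¹ * (g * (s : Fi24) * g⁻¹) = g * ((v : Fi24) * s) * g⁻¹ := by group
        _ = g * (s * (v : Fi24)) * g⁻¹ := by rw [hv'']
        _ = _ := by group
    · intro hw
      refine ⟨g'⁻¹ * w * g', mem_centralizer_singleton_iff.2 (Subtype.ext ?_), ?_⟩
      · show g⁻¹ * (w : Fi24) * g * (s : Fi24) = (s : Fi24) * (g⁻¹ * (w : Fi24) * g)
        rw [← hgs] at hw
        calc g⁻¹ * (w : Fi24) * g * (s : Fi24) = g⁻¹ * ((w : Fi24) * (g * s * g⁻¹)) * g := by group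
          _ = g⁻¹ * ((g * s * g⁻¹) * (w : Fi24)) * g := by rw [hw]
          _ = _ := by group
      · show g' * (g'⁻¹ * w * g') * g'⁻¹ = w
        group
  have hrad' : g' * y * g'⁻¹ ∈ radIn Cfsg.Agent.H491.Rad3.FiTF.M := by
    rw [← hmap, ← radIn_map]
    exact ⟨y, hrad, rfl⟩
  have ha3 : (g' * y * g'⁻¹) ^ 3 = 1 := by rw [conj_pow, hy3]; group
  have haM : g' * y * g'⁻¹ ∈ Cfsg.Agent.H491.Rad3.FiTF.M := radIn_le _ hrad'
  obtain ⟨e, he, h1⟩ := Cfsg.Agent.H491.Rad3.FiTF.fix_of_cube (congrArg Subtype.val ha3)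
    (Cfsg.Agent.H491.Rad3.FiTF.mem_M.1 haM) (fixes_of_mem ha3 haM hrad')
  have h1' : g * (y : Fi24) * g⁻¹ * e * (g * (y : Fi24) * g⁻¹)⁻¹ = e := h1
  refine hcon (g⁻¹ * e * g⁻¹⁻¹) (Cfsg.Agent.R08.FiTwentyFour.conj he g⁻¹) ?_
  have h2 : g * (y : Fi24) * g⁻¹ * e = e * (g * (y : Fi24) * g⁻¹) := mul_inv_eq_iff_eq_mul.1 h1'
  calc g⁻¹ * e * g⁻¹⁻¹ * (y : Fi24) = g⁻¹ * (e * (g * (y : Fi24) * g⁻¹)) * g := by group
    _ = g⁻¹ * (g * (y : Fi24) * g⁻¹ * e) * g := by rw [h2]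
    _ = _ := by group

/-- the product of three transpositions in `⟨α⟩` -/
theorem false_tri [Finite Spor.Fi24'] {α : MulAut Spor.Fi24'} (h : Cfg α) {y : Spor.Fi24'}
    (hy : MulAut.conj y ∈ zpowers α) (hy3 : y ^ 3 = 1) (hcon : ∀ d ∈ L, d * (y : Fi24) ≠ (y : Fi24) * d)
    {g₀ a b c : Fi24} (hα : ∀ k : Spor.Fi24', (α k : Fi24) = g₀ * (k : Fi24) * g₀⁻¹) (hT : Tri3 a b c)
    (hg₀ : Commute g₀ (a * b * c)) : False := by
  have htr := Cfsg.Agent.R08.TetFi24A.tr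
  let M : Subgroup Spor.Fi24' := (centralizer ({a * b * c} : Set Fi24)).comap (commutator Fi24).subtype
  have hM : ∀ k : Spor.Fi24', k ∈ M ↔ Commute (k : Fi24) (a * b * c) := fun k => mem_centralizer_singleton_iff
  let E : Subgroup Spor.Fi24' := (U a b c).comap (commutator Fi24).subtype
  have hE : ∀ k : Spor.Fi24', k ∈ E ↔ (k : Fi24) ∈ U a b c := fun k => Iff.rfl
  have hMt : M ≠ ⊤ := by
    intro h1
    have h2 : a * b * c = 1 := eq_one_of_comm fun x hx => by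
      have h3 : (⟨x, hx⟩ : Spor.Fi24') ∈ M := by rw [h1]; trivial
      exact ((hM _).1 h3).eq.symm
    apply Cfsg.Agent.R08.FiTwentyFour.odd hT.hc
    have h4 : c = (a * b)⁻¹ := eq_inv_of_mul_eq_one_right h2
    rw [h4]
    exact inv_mem (Cfsg.Agent.R08.FiTwentyFour.even hT.ha hT.hb)
  have hMi : ∀ m ∈ M, α m ∈ M := by
    intro m hm
    rw [hM] at hm ⊢
    rw [hα]
    exact (hg₀.mul_left hm).mul_left hg₀.inv_left
  have hEM : E ≤ M := by
    intro k hk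
    obtain ⟨-, h1, h2, h3⟩ := mem_U.1 ((hE k).1 hk)
    exact (hM k).2 ((h1.mul_right h2).mul_right h3)
  have hEi : ∀ k ∈ E, α k ∈ E := by
    intro k hk
    obtain ⟨-, h1, h2, h3⟩ := mem_U.1 ((hE k).1 hk)
    have key : ∀ d : Fi24, d = a ∨ d = b ∨ d = c → Commute (α k : Fi24) d := by
      intro d hd
      have h4 : Commute (k : Fi24) (g₀⁻¹ * d * g₀⁻¹⁻¹) := by
        rcases perm_of_comm hT hg₀.inv_left hd with h5 | h5 | h5
        · rw [h5]; exact h1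
        · rw [h5]; exact h2
        · rw [h5]; exact h3
      rw [hα]
      have h5 : (k : Fi24) * (g₀⁻¹ * d * g₀⁻¹⁻¹) = (g₀⁻¹ * d * g₀⁻¹⁻¹) * (k : Fi24) := h4.eq
      show g₀ * (k : Fi24) * g₀⁻¹ * d = d * (g₀ * (k : Fi24) * g₀⁻¹)
      calc g₀ * (k : Fi24) * g₀⁻¹ * d = g₀ * ((k : Fi24) * (g₀⁻¹ * d * g₀⁻¹⁻¹)) * g₀⁻¹ := by group
        _ = g₀ * ((g₀⁻¹ * d * g₀⁻¹⁻¹) * (k : Fi24)) * g₀⁻¹ := by rw [h5]
        _ = _ := by group
    exact (hE _).2 (mem_U.2 ⟨(α k).2, key a (Or.inl rfl), key b (Or.inr (Or.inl rfl)), key c (Or.inr (Or.inr rfl))⟩)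
  let e : ↥E ≃* ↥(U a b c) :=
    { toFun := fun k => ⟨((k : Spor.Fi24') : Fi24), k.2⟩
      invFun := fun u => ⟨⟨(u : Fi24), (mem_U.1 u.2).1⟩, u.2⟩
      left_inv := fun _ => rfl
      right_inv := fun _ => rfl
      map_mul' := fun _ _ => rfl }
  have hq : IsQuasisimple ↥E :=
    Cfsg.Agent.SignalizersComponents.QsBasic.isQuasisimple_of_mulEquiv e.symm (quasi hT)
  have hfix := h.centralizes hMt hMi hEM hEi hq.1.commutator_eq_top
    (fun N hN hs => Cfsg.Agent.H874.Stein.le_center_of_solvable hq hN hs)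
  -- `y` commutes with `a b`
  have hab : (⟨a * b, Cfsg.Agent.R08.FiTwentyFour.even hT.ha hT.hb⟩ : Spor.Fi24') ∈ E :=
    (hE _).2 (mem_U.2 ⟨Cfsg.Agent.R08.FiTwentyFour.even hT.ha hT.hb, (Commute.refl a).mul_left hT.ab.symm,
      hT.ab.mul_left (Commute.refl b), hT.ac.mul_left hT.bc⟩)
  have h1 : α ∈ MulAction.stabilizer (MulAut Spor.Fi24')
      (⟨a * b, Cfsg.Agent.R08.FiTwentyFour.even hT.ha hT.hb⟩ : Spor.Fi24') := hfix _ hab
  have h2 : zpowers α ≤ MulAction.stabilizer (MulAut Spor.Fi24')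
      (⟨a * b, Cfsg.Agent.R08.FiTwentyFour.even hT.ha hT.hb⟩ : Spor.Fi24') := by rwa [zpowers_le]
  have h3 : y * (⟨a * b, Cfsg.Agent.R08.FiTwentyFour.even hT.ha hT.hb⟩ : Spor.Fi24') * y⁻¹ =
      ⟨a * b, Cfsg.Agent.R08.FiTwentyFour.even hT.ha hT.hb⟩ := h2 hy
  have h4 : (y : Fi24) * (a * b) * (y : Fi24)⁻¹ = a * b := congrArg Subtype.val h3
  have h5 : Commute (y : Fi24) (a * b) := mul_inv_eq_iff_eq_mul.1 h4
  have hy3' : (y : Fi24) ^ 3 = 1 := congrArg Subtype.val hy3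
  rcases Cfsg.Agent.CpAutFi24.Tri.fix_or_swap htr hT.ha hT.hb hT.ab hT.nab h5 with ⟨h6, -⟩ | ⟨h6, h7⟩
  · exact hcon a hT.ha (mul_inv_eq_iff_eq_mul.1 h6).symm
  · have h8 : Commute ((y : Fi24) ^ 2) a := by
      show (y : Fi24) ^ 2 * a = a * (y : Fi24) ^ 2
      have h9 : (y : Fi24) ^ 2 * a * ((y : Fi24) ^ 2)⁻¹ = a := by
        calc (y : Fi24) ^ 2 * a * ((y : Fi24) ^ 2)⁻¹ = y * ((y : Fi24) * a * (y : Fi24)⁻¹) * (y : Fi24)⁻¹ := by
              rw [pow_two]; group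
          _ = a := by rw [h6, h7]
      exact mul_inv_eq_iff_eq_mul.1 h9
    have h9 : Commute (y : Fi24) a := by
      have h10 : (y : Fi24) = ((y : Fi24) ^ 2) ^ 2 := by
        rw [← pow_mul, show 2 * 2 = 3 + 1 from rfl, pow_succ, hy3', one_mul]
      rw [h10]
      exact h8.pow_left 2
    exact hcon a hT.ha h9.eq.symm

end Cfsg.Agent.H999.Ccp.FiTF
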